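import Mathlib.LinearAlgebra.Matrix.Charpoly.Coeff
import Mathlib.NumberTheory.LegendreSymbol.AddCharacter
import Cfsg.Agent.H139.Cusp.Formula
import Cfsg.Agent.H505.S4536.Conj

/-!
# S4536 (D6): the coefficients of the cuspidal class functions `kap` at the linear characters of the unitriangular group
(helper626, task 5102)

* `sum_ut_kap`, `sum_ut_kap_eq_zero`.

`kap B x = B (X - 1) * pk (dim ker (x - 1))` by `kap_formula`, and the last column of `x` is summed first.
-/

set_option autoImplicit false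

open Polynomial Cfsg

namespace Cfsg.Agent.H626.Whit

open Cfsg.Agent.H139.Cusp
open Cfsg.Agent.H505.S4536 (UT)

universe u

attribute [local instance] fintypeHom fintypeSub finite_quot

variable {F : Type u} [Field F]

/-! ### adding a column -/

/-- the matrix with the additional last column `(v, 1)` -/
def ext {n : ℕ} (y : Matrix (Fin n) (Fin n) F) (v : Fin n → F) : Matrix (Fin (n + 1)) (Fin (n + 1)) F :=
  fun i j => Fin.lastCases (motive := fun _ => F) (Fin.lastCases (motive := fun _ => F) 1 (fun i' => v i') i)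
    (fun j' => Fin.lastCases (motive := fun _ => F) 0 (fun i' => y i' j') i) j

section ext

variable {n : ℕ} (y : Matrix (Fin n) (Fin n) F) (v : Fin n → F)

@[simp] theorem ext_cc (i j : Fin n) : ext y v i.castSucc j.castSucc = y i j := by simp [ext]
@[simp] theorem ext_cl (i : Fin n) : ext y v i.castSucc (Fin.last n) = v i := by simp [ext]
@[simp] theorem ext_lc (j : Fin n) : ext y v (Fin.last n) j.castSucc = 0 := by simp [ext]
@[simp] theorem ext_ll : ext y v (Fin.last n) (Fin.last n) = 1 := by simp [ext]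

theorem ut_ext {y : Matrix (Fin n) (Fin n) F} (hy : UT y) (v : Fin n → F) : UT (ext y v) := by
  constructor
  · intro i
    refine Fin.lastCases ?_ (fun i' => ?_) i
    · exact ext_ll y v
    · rw [ext_cc, hy.1]
  · intro i j hij
    induction i using Fin.lastCases with
    | last =>
      induction j using Fin.lastCases with
      | last => exact absurd hij (lt_irrefl _)
      | cast j' => exact ext_lc y v j'
    | cast i' =>
      induction j using Fin.lastCases with
      | last => exact absurd hij (by rw [not_lt]; exact (Fin.le_last _))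
      | cast j' =>
        rw [ext_cc]
        exact hy.2 _ _ (by simpa using hij)

theorem exists_ext {x : Matrix (Fin (n + 1)) (Fin (n + 1)) F} (hx : UT x) :
    UT (x.submatrix Fin.castSucc Fin.castSucc) ∧
      ext (x.submatrix Fin.castSucc Fin.castSucc) (fun i => x i.castSucc (Fin.last n)) = x := by
  refine ⟨⟨fun i => hx.1 _, fun i j hij => hx.2 _ _ (by simpa using hij)⟩, ?_⟩
  funext i j
  induction i using Fin.lastCases with
  | last =>
    induction j using Fin.lastCases with
    | last => rw [ext_ll, hx.1]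
    | cast j' => rw [ext_lc, hx.2 _ _ (Fin.castSucc_lt_last j')]
  | cast i' =>
    induction j using Fin.lastCases with
    | last => rw [ext_cl]
    | cast j' => rw [ext_cc]; rfl

theorem submatrix_ext : (ext y v).submatrix Fin.castSucc Fin.castSucc = y := by
  funext i j
  exact ext_cc y v i j

theorem col_ext : (fun i : Fin n => ext y v i.castSucc (Fin.last n)) = v := by
  funext i
  exact ext_cl y v i

end ext

open Classical in
/-- the sum over the unitriangular matrices, the last column first -/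
theorem sum_ut [Fintype F] {n : ℕ} {f : Matrix (Fin (n + 1)) (Fin (n + 1)) F → ℂ} :
    ∑ x ∈ Finset.univ.filter (fun x : Matrix (Fin (n + 1)) (Fin (n + 1)) F => UT x), f x =
      ∑ y ∈ Finset.univ.filter (fun y : Matrix (Fin n) (Fin n) F => UT y), ∑ v : Fin n → F, f (ext y v) := by
  rw [← Finset.sum_product']
  symm
  refine Finset.sum_nbij' (fun p => ext p.1 p.2)
    (fun x => (x.submatrix Fin.castSucc Fin.castSucc, fun i => x i.castSucc (Fin.last n))) ?_ ?_ ?_ ?_ ?_
  · rintro ⟨y, v⟩ hp
    rw [Finset.mem_product, Finset.mem_filter] at hp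
    exact Finset.mem_filter.2 ⟨Finset.mem_univ _, ut_ext hp.1.2 v⟩
  · intro x hx
    rw [Finset.mem_filter] at hx
    rw [Finset.mem_product, Finset.mem_filter]
    exact ⟨⟨Finset.mem_univ _, (exists_ext hx.2).1⟩, Finset.mem_univ _⟩
  · rintro ⟨y, v⟩ -
    exact Prod.ext (submatrix_ext y v) (col_ext y v)
  · intro x hx
    rw [Finset.mem_filter] at hx
    exact (exists_ext hx.2).2
  · rintro ⟨y, v⟩ -
    rfl

/-! ### the kernel of `x - 1` -/

/-- `x - 1` -/
noncomputable def nn {n : ℕ} (x : Matrix (Fin n) (Fin n) F) : (Fin n → F) →ₗ[F] (Fin n → F) := Matrix.toLin' x - 1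

/-- `dim ker (x - 1)` -/
noncomputable def kd {n : ℕ} (x : Matrix (Fin n) (Fin n) F) : ℕ := Module.finrank F (LinearMap.ker (nn x))

theorem nn_apply {n : ℕ} (x : Matrix (Fin n) (Fin n) F) (w : Fin n → F) (i : Fin n) :
    nn x w i = ∑ j, x i j * w j - w i := by
  rw [nn, LinearMap.sub_apply, Matrix.toLin'_apply, Module.End.one_apply, Pi.sub_apply]
  rfl

/-- the embedding in the first coordinates -/
noncomputable def emb (F : Type u) [Field F] (n : ℕ) : (Fin n → F) →ₗ[F] (Fin (n + 1) → F) where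
  toFun w := Fin.snoc (α := fun _ => F) w 0
  map_add' a b := by
    funext i
    induction i using Fin.lastCases with
    | last => simp
    | cast i' => simp
  map_smul' r a := by
    funext i
    induction i using Fin.lastCases with
    | last => simp
    | cast i' => simp

theorem emb_cast {n : ℕ} (w : Fin n → F) (i : Fin n) : emb F n w i.castSucc = w i :=
  Fin.snoc_castSucc (α := fun _ => F) _ _ _

theorem emb_last {n : ℕ} (w : Fin n → F) : emb F n w (Fin.last n) = 0 :=
  Fin.snoc_last (α := fun _ => F) _ _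

theorem emb_injective (n : ℕ) : Function.Injective (emb F n) := by
  intro a b h
  funext i
  rw [← emb_cast a, ← emb_cast b, h]

theorem nn_ext {n : ℕ} (y : Matrix (Fin n) (Fin n) F) (v : Fin n → F) (w : Fin (n + 1) → F) :
    nn (ext y v) w = emb F n (nn y (fun i => w i.castSucc) + w (Fin.last n) • v) := by
  funext i
  induction i using Fin.lastCases with
  | last =>
    rw [emb_last, nn_apply, Fin.sum_univ_castSucc]
    simp
  | cast i' =>
    rw [emb_cast, nn_apply, Fin.sum_univ_castSucc, Pi.add_apply, nn_apply, Pi.smul_apply, smul_eq_mul, ext_cl]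
    simp only [ext_cc]
    ring

theorem range_nn_ext {n : ℕ} (y : Matrix (Fin n) (Fin n) F) (v : Fin n → F) :
    LinearMap.range (nn (ext y v)) = (LinearMap.range (nn y) ⊔ Submodule.span F {v}).map (emb F n) := by
  apply le_antisymm
  · rintro _ ⟨w, rfl⟩
    rw [nn_ext]
    refine Submodule.mem_map_of_mem (Submodule.add_mem _ (Submodule.mem_sup_left ⟨_, rfl⟩)
      (Submodule.mem_sup_right (Submodule.smul_mem _ _ (Submodule.mem_span_singleton_self v))))
  · rw [Submodule.map_le_iff_le_comap]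
    refine sup_le ?_ ?_
    · rintro _ ⟨w, rfl⟩
      refine ⟨emb F n w, ?_⟩
      rw [nn_ext, emb_last, zero_smul, add_zero]
      congr 2
      funext i
      exact emb_cast w i
    · rw [Submodule.span_singleton_le_iff_mem]
      refine ⟨fun i => Fin.lastCases (motive := fun _ => F) 1 (fun _ => 0) i, ?_⟩
      rw [nn_ext]
      have h1 : (fun i : Fin n => (Fin.lastCases (motive := fun _ => F) 1 (fun _ => 0) i.castSucc : F)) = 0 := by
        funext i
        simp
      rw [h1, map_zero, zero_add, Fin.lastCases_last, one_smul]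

theorem finrank_range {n : ℕ} (x : Matrix (Fin n) (Fin n) F) :
    Module.finrank F (LinearMap.range (nn x)) + kd x = n := by
  rw [kd, LinearMap.finrank_range_add_finrank_ker, Module.finrank_fin_fun]

theorem kd_ext_mem {n : ℕ} {y : Matrix (Fin n) (Fin n) F} {v : Fin n → F} (h : v ∈ LinearMap.range (nn y)) :
    kd (ext y v) = kd y + 1 := by
  have h1 := finrank_range (ext y v)
  have h2 := finrank_range y
  have h3 : Module.finrank F (LinearMap.range (nn (ext y v))) = Module.finrank F (LinearMap.range (nn y)) := by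
    rw [range_nn_ext, sup_eq_left.2 ((Submodule.span_singleton_le_iff_mem _ _).2 h)]
    exact ((Submodule.equivMapOfInjective (emb F n) (emb_injective n) _).finrank_eq).symm
  omega

theorem kd_ext_notMem {n : ℕ} {y : Matrix (Fin n) (Fin n) F} {v : Fin n → F} (h : v ∉ LinearMap.range (nn y)) :
    kd (ext y v) = kd y := by
  have h1 := finrank_range (ext y v)
  have h2 := finrank_range y
  have h3 : Module.finrank F (LinearMap.range (nn (ext y v))) = Module.finrank F (LinearMap.range (nn y)) + 1 := by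
    rw [range_nn_ext, ← Submodule.finrank_sup_span_singleton h]
    exact ((Submodule.equivMapOfInjective (emb F n) (emb_injective n) _).finrank_eq).symm
  omega

/-! ### the values of `kap` -/

/-- the value of `kap` at a unipotent element, up to `B (X - 1)` -/
noncomputable def pk (F : Type u) [Field F] (k : ℕ) : ℂ :=
  ∏ i ∈ Finset.range (k - 1), (1 - (Nat.card F : ℂ) ^ (i + 1))

theorem pk_succ {k : ℕ} (hk : 1 ≤ k) : pk F (k + 1) = pk F k * (1 - (Nat.card F : ℂ) ^ k) := by
  obtain ⟨j, rfl⟩ : ∃ j, k = j + 1 := ⟨k - 1, by omega⟩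
  rw [pk, pk, show j + 1 + 1 - 1 = j + 1 from rfl, show j + 1 - 1 = j from rfl, Finset.prod_range_succ]

theorem charpoly_ut {n : ℕ} {x : Matrix (Fin n) (Fin n) F} (hx : UT x) :
    (Matrix.toLin' x).charpoly = (X - C 1 : F[X]) ^ n := by
  rw [← LinearMap.charpoly_toMatrix (Matrix.toLin' x) (Pi.basisFun F (Fin n)), ← Matrix.toLin_eq_toLin',
    LinearMap.toMatrix_toLin, Matrix.charpoly_of_isUpperTriangular x (fun i j h => hx.2 i j h)]
  rw [Finset.prod_congr rfl fun i _ => by rw [hx.1 i], Finset.prod_const, Finset.card_univ, Fintype.card_fin]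

theorem aeval_nn {n : ℕ} (x : Matrix (Fin n) (Fin n) F) : aeval (Matrix.toLin' x) (X - C 1 : F[X]) = nn x := by
  rw [aeval_sub, aeval_X, aeval_C, map_one]
  rfl

theorem kap_ut [Finite F] (B : F[X] → ℂ) (hB : ∀ p q : F[X], p.Monic → q.Monic → B (p * q) = B p + B q) {n : ℕ}
    {x : Matrix (Fin (n + 1)) (Fin (n + 1)) F} (hx : UT x) :
    1 ≤ kd x ∧ kap B (Matrix.toLin' x) ⊤ = B (X - 1) * pk F (kd x) := by
  have h1 := charpoly_ut hx
  have hirr : Irreducible (X - C 1 : F[X]) := irreducible_X_sub_C 1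
  obtain ⟨k, hk⟩ := exists_finrank_ker hirr (g := Matrix.toLin' x) (by rw [h1]; exact dvd_pow_self _ (Nat.succ_ne_zero n))
  have h2 := kap_formula B hB (monic_X_sub_C (1 : F)) hirr (aeval_pow_of_charpoly h1) hk
  rw [natDegree_X_sub_C, one_mul] at hk
  have h3 : kd x = k + 1 := by
    rw [kd, ← aeval_nn, hk]
  refine ⟨by omega, ?_⟩
  rw [natDegree_X_sub_C] at h2
  simp only [one_mul] at h2
  rw [h2, h3, pk, show k + 1 - 1 = k from rfl, map_one]

/-! ### the sums -/

open Classical in
theorem sum_last [Fintype F] {m : ℕ} (ψ : AddChar F ℂ) (a : F) :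
    (∑ v : Fin (m + 1) → F, ψ (a * v (Fin.last m)) = 0 ∧ ψ ≠ 1 ∧ a ≠ 0) ∨
      (∑ v : Fin (m + 1) → F, ψ (a * v (Fin.last m)) = (Fintype.card F : ℂ) ^ (m + 1) ∧ (ψ = 1 ∨ a = 0)) := by
  by_cases h : ψ = 1 ∨ a = 0
  · right
    refine ⟨?_, h⟩
    have h1 : ∀ v : Fin (m + 1) → F, ψ (a * v (Fin.last m)) = 1 := by
      intro v
      rcases h with h | h
      · rw [h, AddChar.one_apply]
      · rw [h, zero_mul, AddChar.map_zero_eq_one]
    rw [Finset.sum_congr rfl fun v _ => h1 v, Finset.sum_const, Finset.card_univ, Fintype.card_fun, Fintype.card_fin,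
      nsmul_eq_mul, mul_one, Nat.cast_pow]
  · left
    rw [not_or] at h
    refine ⟨?_, h⟩
    obtain ⟨b, hb⟩ := AddChar.ne_one_iff.1 h.1
    let χ : AddChar (Fin (m + 1) → F) ℂ :=
      { toFun := fun v => ψ (a * v (Fin.last m))
        map_zero_eq_one' := by rw [Pi.zero_apply, mul_zero, AddChar.map_zero_eq_one]
        map_add_eq_mul' := fun v w => by rw [Pi.add_apply, mul_add, AddChar.map_add_eq_mul] }
    have h1 : χ ≠ 1 := by
      rw [AddChar.ne_one_iff]
      refine ⟨fun _ => a⁻¹ * b, ?_⟩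
      show ψ (a * (a⁻¹ * b)) ≠ 1
      rwa [mul_inv_cancel_left₀ h.2]
    exact AddChar.sum_eq_zero_of_ne_one h1

theorem last_range {m : ℕ} {y : Matrix (Fin (m + 1)) (Fin (m + 1)) F} (hy : UT y) {v : Fin (m + 1) → F}
    (hv : v ∈ LinearMap.range (nn y)) : v (Fin.last m) = 0 := by
  obtain ⟨w, rfl⟩ := hv
  rw [nn_apply, Fin.sum_univ_castSucc, hy.1, one_mul]
  have h1 : ∀ i : Fin m, y (Fin.last m) i.castSucc * w i.castSucc = 0 := fun i => by
    rw [hy.2 _ _ (Fin.castSucc_lt_last i), zero_mul]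
  rw [Finset.sum_eq_zero fun i _ => h1 i, zero_add, sub_self]

open Classical in
/-- the sum over the last column -/
theorem sum_col [Fintype F] {m : ℕ} {y : Matrix (Fin (m + 1)) (Fin (m + 1)) F} (hy : UT y) (hk : 1 ≤ kd y)
    (ψ : AddChar F ℂ) (a : F) :
    ∑ v : Fin (m + 1) → F, pk F (kd (ext y v)) * ψ (a * v (Fin.last m)) =
      pk F (kd y) * (∑ v : Fin (m + 1) → F, ψ (a * v (Fin.last m)) - (Fintype.card F : ℂ) ^ (m + 1)) := by
  have h1 : ∀ v : Fin (m + 1) → F, pk F (kd (ext y v)) * ψ (a * v (Fin.last m)) =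
      pk F (kd y) * ψ (a * v (Fin.last m)) -
        (if v ∈ LinearMap.range (nn y) then pk F (kd y) * (Nat.card F : ℂ) ^ kd y else 0) := by
    intro v
    split_ifs with h
    · rw [kd_ext_mem h, pk_succ hk, last_range hy h, mul_zero, AddChar.map_zero_eq_one]
      ring
    · rw [kd_ext_notMem h, sub_zero]
  have h2 : ((Finset.univ.filter (fun v : Fin (m + 1) → F => v ∈ LinearMap.range (nn y))).card : ℂ) *
      (Nat.card F : ℂ) ^ kd y = (Fintype.card F : ℂ) ^ (m + 1) := by
    have h3 : (Finset.univ.filter (fun v : Fin (m + 1) → F => v ∈ LinearMap.range (nn y))).card =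
        Nat.card (LinearMap.range (nn y)) := by
      rw [Nat.card_eq_fintype_card, Fintype.card_subtype]
    rw [h3, Module.natCard_eq_pow_finrank (K := F) (V := LinearMap.range (nn y)), Nat.cast_pow, ← pow_add,
      finrank_range, Nat.card_eq_fintype_card]
  rw [Finset.sum_congr rfl fun v _ => h1 v, Finset.sum_sub_distrib, ← Finset.mul_sum, ← Finset.sum_filter,
    Finset.sum_const, nsmul_eq_mul, mul_sub, ← h2]
  ring

/-- the exponent -/
theorem linear_ext {m : ℕ} (c : Fin (m + 1) → F) (y : Matrix (Fin (m + 1)) (Fin (m + 1)) F) (v : Fin (m + 1) → F) :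
    ∑ i : Fin (m + 1), c i * ext y v i.castSucc i.succ =
      ∑ i : Fin m, c i.castSucc * y i.castSucc i.succ + c (Fin.last m) * v (Fin.last m) := by
  rw [Fin.sum_univ_castSucc]
  congr 1
  · refine Finset.sum_congr rfl fun i _ => ?_
    rw [Fin.succ_castSucc, ext_cc]
  · rw [Fin.succ_last, ext_cl]

open Classical in
/-- **the recursion** -/
theorem sum_succ [Fintype F] (ψ : AddChar F ℂ) {m : ℕ} (c : Fin (m + 1) → F)
    (hkd : ∀ y : Matrix (Fin (m + 1)) (Fin (m + 1)) F, UT y → 1 ≤ kd y) :
    ∑ x ∈ Finset.univ.filter (fun x : Matrix (Fin (m + 1 + 1)) (Fin (m + 1 + 1)) F => UT x),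
        pk F (kd x) * ψ (∑ i : Fin (m + 1), c i * x i.castSucc i.succ) =
      (∑ v : Fin (m + 1) → F, ψ (c (Fin.last m) * v (Fin.last m)) - (Fintype.card F : ℂ) ^ (m + 1)) *
      ∑ y ∈ Finset.univ.filter (fun y : Matrix (Fin (m + 1)) (Fin (m + 1)) F => UT y),
        pk F (kd y) * ψ (∑ i : Fin m, c i.castSucc * y i.castSucc i.succ) := by
  rw [sum_ut, Finset.mul_sum]
  refine Finset.sum_congr rfl fun y hy => ?_
  have hy' := (Finset.mem_filter.1 hy).2
  have h1 : ∀ v : Fin (m + 1) → F, pk F (kd (ext y v)) *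
      ψ (∑ i : Fin (m + 1), c i * ext y v i.castSucc i.succ) =
      ψ (∑ i : Fin m, c i.castSucc * y i.castSucc i.succ) *
        (pk F (kd (ext y v)) * ψ (c (Fin.last m) * v (Fin.last m))) := by
    intro v
    rw [linear_ext, AddChar.map_add_eq_mul]
    ring
  rw [Finset.sum_congr rfl fun v _ => h1 v, ← Finset.mul_sum, sum_col hy' (hkd y hy')]
  ring

theorem ut_one {x : Matrix (Fin 1) (Fin 1) F} : UT x ↔ x = 1 := by
  constructor
  · intro h
    funext i j
    rw [Subsingleton.elim i j, h.1, Matrix.one_apply_eq]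
  · rintro rfl
    exact UT.one

open Classical in
theorem sum_pk [Fintype F] {ψ : AddChar F ℂ} (hψ : ψ ≠ 1) (m : ℕ) (c : Fin m → F) (hc : ∀ i, c i ≠ 0)
    (hkd : ∀ (m : ℕ) (y : Matrix (Fin (m + 1)) (Fin (m + 1)) F), UT y → 1 ≤ kd y) :
    ∑ x ∈ Finset.univ.filter (fun x : Matrix (Fin (m + 1)) (Fin (m + 1)) F => UT x),
        pk F (kd x) * ψ (∑ i : Fin m, c i * x i.castSucc i.succ) =
      (-1) ^ m * (Fintype.card F : ℂ) ^ (m * (m + 1) / 2) := by
  induction m with
  | zero =>
    have h1 : Finset.univ.filter (fun x : Matrix (Fin (0 + 1)) (Fin (0 + 1)) F => UT x) = {1} := by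
      ext x
      rw [Finset.mem_filter, Finset.mem_singleton]
      exact ⟨fun h => ut_one.1 h.2, fun h => ⟨Finset.mem_univ _, ut_one.2 h⟩⟩
    have h2 : kd (1 : Matrix (Fin (0 + 1)) (Fin (0 + 1)) F) = 1 := by
      have h3 := hkd 0 1 (ut_one.2 rfl)
      have h4 := finrank_range (1 : Matrix (Fin (0 + 1)) (Fin (0 + 1)) F)
      omega
    rw [h1, Finset.sum_singleton, h2]
    simp [pk]
  | succ m ih =>
    rw [sum_succ ψ c (hkd m), ih (fun i => c i.castSucc) (fun i => hc _)]
    rcases sum_last (m := m) ψ (c (Fin.last m)) with ⟨h1, -⟩ | ⟨-, h1 | h1⟩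
    · rw [h1]
      have h2 : (m + 1) * (m + 1 + 1) / 2 = (m + 1) + m * (m + 1) / 2 := by
        have h3 : (m + 1) * (m + 1 + 1) = 2 * (m + 1) + m * (m + 1) := by ring
        rw [h3, Nat.mul_add_div (by norm_num)]
      rw [h2, pow_add, pow_succ]
      ring
    · exact absurd h1 hψ
    · exact absurd h1 (hc _)

open Classical in
theorem sum_pk_eq_zero [Fintype F] (ψ : AddChar F ℂ) (m : ℕ) (c : Fin m → F) (hc : ∃ i, c i = 0)
    (hkd : ∀ (m : ℕ) (y : Matrix (Fin (m + 1)) (Fin (m + 1)) F), UT y → 1 ≤ kd y) :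
    ∑ x ∈ Finset.univ.filter (fun x : Matrix (Fin (m + 1)) (Fin (m + 1)) F => UT x),
        pk F (kd x) * ψ (∑ i : Fin m, c i * x i.castSucc i.succ) = 0 := by
  induction m with
  | zero => exact hc.choose.elim0
  | succ m ih =>
    rw [sum_succ ψ c (hkd m)]
    rcases sum_last (m := m) ψ (c (Fin.last m)) with ⟨-, -, h1⟩ | ⟨h1, -⟩
    · rw [ih (fun i => c i.castSucc) ?_, mul_zero]
      obtain ⟨i, hi⟩ := hc
      induction i using Fin.lastCases with
      | last => exact absurd hi h1
      | cast i' => exact ⟨i', hi⟩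
    · rw [h1, sub_self, zero_mul]

variable [Fintype F] (B : F[X] → ℂ) (hB : ∀ p q : F[X], p.Monic → q.Monic → B (p * q) = B p + B q)

include hB

open Classical in
theorem sum_kap (m : ℕ) (ψ : AddChar F ℂ) (c : Fin m → F) :
    ∑ x ∈ Finset.univ.filter (fun x : Matrix (Fin (m + 1)) (Fin (m + 1)) F => UT x),
      kap B (Matrix.toLin' x) ⊤ * ψ (∑ i : Fin m, c i * x i.castSucc i.succ) =
    B (X - 1) * ∑ x ∈ Finset.univ.filter (fun x : Matrix (Fin (m + 1)) (Fin (m + 1)) F => UT x),
        pk F (kd x) * ψ (∑ i : Fin m, c i * x i.castSucc i.succ) := by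
  rw [Finset.mul_sum]
  refine Finset.sum_congr rfl fun x hx => ?_
  rw [(kap_ut B hB (Finset.mem_filter.1 hx).2).2, mul_assoc]

open Classical in
/-- **D6(a): the nondegenerate coefficient of `kap` on the unitriangular group** -/
theorem sum_ut_kap (m : ℕ) (ψ : AddChar F ℂ) (hψ : ψ ≠ 1) (c : Fin m → F) (hc : ∀ i, c i ≠ 0) :
    ∑ x ∈ Finset.univ.filter (fun x : Matrix (Fin (m + 1)) (Fin (m + 1)) F => UT x),
      kap B (Matrix.toLin' x) ⊤ * ψ (∑ i : Fin m, c i * x i.castSucc i.succ) =
    (-1) ^ m * B (X - 1) * (Fintype.card F : ℂ) ^ (m * (m + 1) / 2) := by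
  rw [sum_kap B hB, sum_pk hψ m c hc (fun m y hy => (kap_ut B hB hy).1)]
  ring

open Classical in
/-- **D6(b): the degenerate coefficients vanish** -/
theorem sum_ut_kap_eq_zero (m : ℕ) (ψ : AddChar F ℂ) (c : Fin m → F) (hc : ∃ i, c i = 0) :
    ∑ x ∈ Finset.univ.filter (fun x : Matrix (Fin (m + 1)) (Fin (m + 1)) F => UT x),
      kap B (Matrix.toLin' x) ⊤ * ψ (∑ i : Fin m, c i * x i.castSucc i.succ) = 0 := by
  rw [sum_kap B hB, sum_pk_eq_zero ψ m c hc (fun m y hy => (kap_ut B hB hy).1), mul_zero]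

end Cfsg.Agent.H626.Whit
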